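import Cfsg.Agent.H9.E83.Dat

/-!
Kernel checks for the elements of order 26 and 52.
-/

set_option autoImplicit false
set_option maxRecDepth 100000

namespace Cfsg.Agent.H9.SL2

/-- A column. -/
def cl (i : ℕ) : ℕ := (cols.getD i (0, 0)).2

theorem enum_split {leaf : ℕ → Bool} {L : List (ℕ × ℕ)} {m c : ℕ} {cs : List (ℕ × ℕ)}
    (e : L = (m, c) :: cs) {b v : ℕ} (h : ∀ t < b / m + 1, enum leaf cs (b - t * m) (v + t * c) = true) :
    enum leaf L b v = true := by
  rw [e, enum, List.all_eq_true]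
  exact fun t ht => h t (List.mem_range.1 ht)

theorem e000 : enum leaf26 (cols.drop 3) (26 - 0 * 6 - 0 * 5 - 0 * 4) (0 + 0 * cl 0 + 0 * cl 1 + 0 * cl 2) = true := by
  decide +kernel

theorem e001 : enum leaf26 (cols.drop 3) (26 - 0 * 6 - 0 * 5 - 1 * 4) (0 + 0 * cl 0 + 0 * cl 1 + 1 * cl 2) = true := by
  decide +kernel

theorem e002 : enum leaf26 (cols.drop 3) (26 - 0 * 6 - 0 * 5 - 2 * 4) (0 + 0 * cl 0 + 0 * cl 1 + 2 * cl 2) = true := by
  decide +kernel

theorem e003 : enum leaf26 (cols.drop 3) (26 - 0 * 6 - 0 * 5 - 3 * 4) (0 + 0 * cl 0 + 0 * cl 1 + 3 * cl 2) = true := by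
  decide +kernel

theorem e004 : enum leaf26 (cols.drop 3) (26 - 0 * 6 - 0 * 5 - 4 * 4) (0 + 0 * cl 0 + 0 * cl 1 + 4 * cl 2) = true := by
  decide +kernel

theorem e005 : enum leaf26 (cols.drop 3) (26 - 0 * 6 - 0 * 5 - 5 * 4) (0 + 0 * cl 0 + 0 * cl 1 + 5 * cl 2) = true := by
  decide +kernel

theorem e006 : enum leaf26 (cols.drop 3) (26 - 0 * 6 - 0 * 5 - 6 * 4) (0 + 0 * cl 0 + 0 * cl 1 + 6 * cl 2) = true := by
  decide +kernel

theorem e00 : enum leaf26 (cols.drop 2) (26 - 0 * 6 - 0 * 5) (0 + 0 * cl 0 + 0 * cl 1) = true :=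
  enum_split (m := 4) (c := cl 2) (cs := cols.drop 3) rfl fun t ht => by
    interval_cases t
    exacts [e000, e001, e002, e003, e004, e005, e006]

theorem e01 : enum leaf26 (cols.drop 2) (26 - 0 * 6 - 1 * 5) (0 + 0 * cl 0 + 1 * cl 1) = true := by
  decide +kernel

theorem e02 : enum leaf26 (cols.drop 2) (26 - 0 * 6 - 2 * 5) (0 + 0 * cl 0 + 2 * cl 1) = true := by
  decide +kernel

theorem e03 : enum leaf26 (cols.drop 2) (26 - 0 * 6 - 3 * 5) (0 + 0 * cl 0 + 3 * cl 1) = true := by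
  decide +kernel

theorem e04 : enum leaf26 (cols.drop 2) (26 - 0 * 6 - 4 * 5) (0 + 0 * cl 0 + 4 * cl 1) = true := by
  decide +kernel

theorem e05 : enum leaf26 (cols.drop 2) (26 - 0 * 6 - 5 * 5) (0 + 0 * cl 0 + 5 * cl 1) = true := by
  decide +kernel

theorem e0 : enum leaf26 (cols.drop 1) (26 - 0 * 6) (0 + 0 * cl 0) = true :=
  enum_split (m := 5) (c := cl 1) (cs := cols.drop 2) rfl fun t ht => by
    interval_cases t
    exacts [e00, e01, e02, e03, e04, e05]

theorem e1 : enum leaf26 (cols.drop 1) (26 - 1 * 6) (0 + 1 * cl 0) = true := by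
  decide +kernel

theorem e2 : enum leaf26 (cols.drop 1) (26 - 2 * 6) (0 + 2 * cl 0) = true := by
  decide +kernel

theorem e3 : enum leaf26 (cols.drop 1) (26 - 3 * 6) (0 + 3 * cl 0) = true := by
  decide +kernel

theorem e4 : enum leaf26 (cols.drop 1) (26 - 4 * 6) (0 + 4 * cl 0) = true := by
  decide +kernel

theorem chk_e26 : enum leaf26 cols 26 0 = true :=
  enum_split (m := 6) (c := cl 0) (cs := cols.drop 1) rfl fun t ht => by
    interval_cases t
    exacts [e0, e1, e2, e3, e4]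

end Cfsg.Agent.H9.SL2
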